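import Groth.Agent.WeilFin.Slope
import Groth.Agent.AbVarLib.GeomIntegralSmooth
import Groth.Agent.LiftObs29.Bridge
import Groth.Agent.FlatMorAdm.LocFreeApps
import Groth.Agent.KModel28.Basic
import Groth.Agent.EulerLib.StabBasic
import Groth.Agent.S5015
import Groth.Agent.JacAJ27.Kappa
import Groth.Agent.Growth14.Fam.Rank
import Groth.Agent.Coherent.CohBC.HomSheaf
import Groth.Agent.Coherent.CohBC.FibreInvariance
import Groth.Agent.DimLib.BaseChange
import Groth.Agent.LocFreeLib.Semilocal
import Groth.Prelude.Def_Red2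
import Groth.Prelude.Def_LieS

/-! Uniform bounds on degrees of parabolic subgroups. -/

set_option autoImplicit false
set_option linter.style.haveILetI false
set_option backward.isDefEq.respectTransparency.types false
universe u

open CategoryTheory CategoryTheory.Limits MonoidalCategory CartesianMonoidalCategory MonObj GrpObj AlgebraicGeometry

namespace Groth.Agent.ParDeg5

theorem bc_unit {S T : Scheme.{u}} (g : T ⟶ S) (G : Over S) [GrpObj G] :
    (η[Red.bc g G]).left ≫ pullback.fst G.hom g = g ≫ (η[G]).left := by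
  show (Functor.LaxMonoidal.ε (Over.pullback g) ≫ (Over.pullback g).map η[G]).left ≫ _ = _
  simp only [Over.comp_left, Category.assoc]
  erw [pullback.lift_fst]
  rw [← Category.assoc]
  congr 1
  simp

theorem nonempty_omega_bc {S T : Scheme.{u}} (g : T ⟶ S) (G : Over S) [GrpObj G] [QuasiSeparated G.hom] :
    Nonempty ((Scheme.Modules.pullback g).obj (LieS.omega G) ≅ LieS.omega (Red.bc g G)) := by
  obtain ⟨e⟩ := JacAJ27.nonempty_omega_bc (IsPullback.of_hasPullback G.hom g)
  exact ⟨(Scheme.Modules.pullbackComp g η[G].left).app _ ≪≫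
    (Scheme.Modules.pullbackCongr (bc_unit g G).symm).app _ ≪≫
    ((Scheme.Modules.pullbackComp (η[Red.bc g G]).left (pullback.fst G.hom g)).app _).symm ≪≫
    (Scheme.Modules.pullback (η[Red.bc g G]).left).mapIso e⟩

/-- Uniform bound on the ranks of the pullbacks of a finite locally free module. -/
theorem exists_rank_bound {X : Scheme.{u}} [CompactSpace X] {E : X.Modules} (hE : FlatMod.IsFinLocFree E) :
    ∃ N : ℕ, ∀ (Y : Scheme.{u}) [Nonempty Y] (g : Y ⟶ X) (r : ℕ),
      FlatMod.IsFinLocFreeOfRank r ((Scheme.Modules.pullback g).obj E) → r ≤ N := by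
  classical
  choose U n hx e using hE
  obtain ⟨t, ht⟩ := isCompact_univ.elim_finite_subcover (fun x => (U x : Set X)) (fun x => (U x).2)
    fun x _ => Set.mem_iUnion.2 ⟨x, hx x⟩
  refine ⟨t.sup n, fun Y _ g r hr => ?_⟩
  obtain ⟨y⟩ := (inferInstance : Nonempty Y)
  obtain ⟨x, hxt, hgy⟩ := Set.mem_iUnion₂.1 (ht (Set.mem_univ (g y)))
  refine le_of_eq_of_le ?_ (Finset.le_sup (f := n) hxt)
  let V : Y.Opens := g ⁻¹ᵁ U x
  haveI : Nonempty V.toScheme := ⟨⟨y, hgy⟩⟩
  have h1 : FlatMod.IsFinLocFreeOfRank (n x) (E.restrict (U x).ι) := fun z => by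
    refine ⟨⊤, trivial, ?_⟩
    obtain ⟨a⟩ := e x
    exact ⟨(Scheme.Modules.restrictFunctor _).mapIso a ≪≫ Coherent.CohBC.freeModRestrictIso _ _⟩
  have h2 := VarietyLib.isFinLocFreeOfRank_pullback (g ∣_ U x) h1
  have h3 := VarietyLib.isFinLocFreeOfRank_pullback V.ι hr
  refine KModel28.rank_unique h3 (KModel28.rank_iso ?_ h2)
  exact (Scheme.Modules.pullback (g ∣_ U x)).mapIso ((Scheme.Modules.restrictFunctorIsoPullback (U x).ι).app E) ≪≫
    (Scheme.Modules.pullbackComp _ _).app E ≪≫ (Scheme.Modules.pullbackCongr (morphismRestrict_ι g (U x))).app E ≪≫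
    ((Scheme.Modules.pullbackComp _ _).app E).symm

section Curve

variable (k : Type u) [Field k] (X : Scheme.{u}) [X.Over (Spec (CommRingCat.of k))]
    [IsIntegral X] [IsProper (X ↘ Spec (CommRingCat.of k))] [Smooth (X ↘ Spec (CommRingCat.of k))]
    [GeometricallyConnected (X ↘ Spec (CommRingCat.of k))] (hdim : topologicalKrullDim X = 1)
include hdim

/-- The bound for a single curve. -/
theorem neg_deg_omega_le (G : Over X) [GrpObj G] [Smooth G.hom] [QuasiSeparated G.hom] (N : ℕ)
    (hN : FlatMod.IsFinLocFreeOfRank N (LieS.omega G)) (P : Over X) [GrpObj P] (i : P ⟶ G)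
    (hi : Red.IsParabolic i) (n : ℕ) (hn : FlatMod.IsFinLocFreeOfRank n (LieS.omega P)) :
    -Curv2.deg k X (LieS.omega P) n ≤
      |(Module.finrank k (Coh.HH X (LieS.omega G) 0) : ℤ) + Curv2.genus k X| * N - VB5.gdeg k (LieS.omega G) := by
  haveI : GeometricallyIntegral (X ↘ Spec (CommRingCat.of k)) :=
    AbVarLib.geometricallyIntegral_of_smooth (X ↘ Spec (CommRingCat.of k))
  haveI := EulerLib.isNoetherian_of_proper k (X := X)
  haveI : IsLocallyNoetherian X := inferInstance
  let C : ℤ := (Module.finrank k (Coh.HH X (LieS.omega G) 0) : ℤ) + Curv2.genus k X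
  haveI := hi.1
  haveI := hi.2.1
  have hw : i.left ≫ G.hom = P.hom := Over.w i
  haveI : QuasiSeparated P.hom := by rw [← hw]; infer_instance
  obtain ⟨c, hc, -⟩ := Omega15.existsUnique_compat i.left (𝟙 X) (f := G.hom) (f' := P.hom)
    (by rw [Category.comp_id, hw]) (OmegaLib.isUniversal_dOmega G.hom) (OmegaSh.dOmega P.hom)
  haveI : Epi c := S5015.epi_of_formallyUnramified hw (OmegaLib.isUniversal_dOmega P.hom) c hc
  have hη : η[P].left ≫ i.left = η[G].left := by rw [← Over.comp_left, IsMonHom.one_hom]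
  let q : LieS.omega G ⟶ LieS.omega P :=
    ((Scheme.Modules.pullbackCongr hη).symm.app (Omega.sheaf G.hom) ≪≫
      (Scheme.Modules.pullbackComp η[P].left i.left).symm.app (Omega.sheaf G.hom)).hom ≫
      (Scheme.Modules.pullback η[P].left).map c
  haveI : (Scheme.Modules.pullback η[P].left).PreservesEpimorphisms :=
    Functor.preservesEpimorphisms_of_adjunction (Scheme.Modules.pullbackPushforwardAdjunction _)
  haveI : Epi q := @epi_comp _ _ _ _ _ _ inferInstance _ (Functor.map_epi _ c)
  have hA := SplitP1.isCoh_of_rank hN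
  have hB := SplitP1.isCoh_of_rank hn
  have hK := Coherent.isCoh_kernel q hA hB.1
  have hS := EulerLib.shortExact_kernel q
  have h1 := VB5.gdeg_additive k hS hK hA hB
  have h2 := WeilFin.gdeg_sub_le k hdim hN (kernel.ι q) hK
  have h3 : VB5.grk (LieS.omega G) = VB5.grk (kernel q) + VB5.grk (LieS.omega P) := VB5.grk_additive hS hA
  rw [VB5.grk_eq hN] at h3
  have h4 : C * (VB5.grk (kernel q) : ℤ) ≤ |C| * N :=
    (mul_le_mul_of_nonneg_right (le_abs_self C) (Int.natCast_nonneg _)).trans
      (mul_le_mul_of_nonneg_left (by omega) (abs_nonneg C))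
  rw [VB5.deg_eq_gdeg k hn]
  change VB5.gdeg k (LieS.omega G) = VB5.gdeg k (kernel q) + VB5.gdeg k (LieS.omega P) at h1
  change VB5.gdeg k (kernel q) ≤ C * (VB5.grk (kernel q) : ℤ) at h2
  linarith


end Curve


section Family

variable {S X : Scheme.{u}} [IsNoetherian S] (p : X ⟶ S) [IsProper p] [Flat p]

theorem exists_fibre_bound {E : X.Modules} (hE : FlatMod.IsFinLocFree E) (i : ℕ) :
    ∃ B : ℕ, ∀ (K : Type u) [Field K] (x : Spec (CommRingCat.of K) ⟶ S) (M : (pullback p x).Modules),
      Nonempty ((Scheme.Modules.pullback (pullback.fst p x)).obj E ≅ M) →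
      @Module.finrank K (Coh.HH (pullback p x) M i) _ _
        (Module.compHom _ (Coh.toGlobal (pullback.snd p x))) ≤ B := by
  classical
  haveI : IsLocallyNoetherian X := LocallyOfFiniteType.isLocallyNoetherian p
  have hEc : Coh.IsCoh E := Coherent.CohBC.isCoh_of_isFinLocFree hE
  haveI := hEc.1
  have hflat := Coherent.CohBC.isFlatOver_of_isFinLocFree p hE
  have hloc : ∀ s : S, ∃ (V : S.Opens) (C : ℕ), s ∈ V ∧ ∀ t ∈ V, CohIII.fiberRank p E i t ≤ C := by
    intro s
    obtain ⟨V, hV, hsV, -⟩ := exists_isAffineOpen_mem_and_subset (x := s) (U := (⊤ : S.Opens)) trivial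
    obtain ⟨C, hC⟩ := Growth14.Fam.exists_bound_on p hV hEc (fun x _ => hflat x) i
    exact ⟨V, C, hsV, hC⟩
  choose V C hsV hC using hloc
  obtain ⟨t, ht⟩ := isCompact_univ.elim_finite_subcover (fun s => (V s : Set S)) (fun s => (V s).2)
    fun s _ => Set.mem_iUnion.2 ⟨s, hsV s⟩
  refine ⟨t.sup C, fun K _ x M ⟨α⟩ => ?_⟩
  let s := x (IsLocalRing.closedPoint K)
  obtain ⟨v, hvt, hsv⟩ := Set.mem_iUnion₂.1 (ht (Set.mem_univ s))
  refine le_trans ?_ ((hC v s hsv).trans (Finset.le_sup (f := C) hvt))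
  let φ := S.descResidueField (Scheme.stalkClosedPointTo x)
  have hφ : Spec.map φ ≫ S.fromSpecResidueField s = x :=
    Scheme.descResidueField_stalkClosedPointTo_fromSpecResidueField K S x
  let τ : pullback p x ⟶ p.fiber s := pullback.lift (pullback.fst p x) (pullback.snd p x ≫ Spec.map φ)
    (by rw [Category.assoc, hφ, pullback.condition])
  have hτ : τ ≫ p.fiberι s = pullback.fst p x := pullback.lift_fst _ _ _
  have houter : IsPullback (τ ≫ p.fiberι s) (pullback.snd p x) p (Spec.map φ ≫ S.fromSpecResidueField s) := by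
    rw [hτ, hφ]; exact IsPullback.of_hasPullback p x
  have hsq : IsPullback τ (pullback.snd p x) (p.fiberToSpecResidueField s) (Spec.map φ) :=
    IsPullback.of_right houter (pullback.lift_snd _ _ _) (IsPullback.of_hasPullback p (S.fromSpecResidueField s))
  haveI : QuasiCompact (p.fiberToSpecResidueField s) :=
    MorphismProperty.pullback_snd (P := @QuasiCompact) _ _ inferInstance
  haveI : QuasiSeparated (p.fiberToSpecResidueField s) :=
    MorphismProperty.pullback_snd (P := @QuasiSeparated) _ _ inferInstance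
  haveI : CompactSpace ↥(p.fiber s) := QuasiCompact.compactSpace_of_compactSpace (p.fiberToSpecResidueField s)
  haveI : QuasiSeparatedSpace ↥(p.fiber s) :=
    (HasAffineProperty.iff_of_isAffine (P := @QuasiSeparated) (f := p.fiberToSpecResidueField s)).mp inferInstance
  haveI : Coh.IsQCoh (CohIII.fiberMod p E s) := EGA43.InjFibre.isQCoh_pullback _ E
  let β : (Scheme.Modules.pullback τ).obj (CohIII.fiberMod p E s) ≅ M :=
    (Scheme.Modules.pullbackComp τ (p.fiberι s)).app E ≪≫ (Scheme.Modules.pullbackCongr hτ).app E ≪≫ α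
  exact le_of_eq (Coherent.CohBC.finrank_HH_bc (S.residueField s) K φ.hom (p.fiberToSpecResidueField s)
    (pullback.snd p x) τ hsq (CohIII.fiberMod p E s) M β i)

theorem exists_bound (hsm : Smooth p) (hconn : GeometricallyConnected p)
    (hdim : ∀ s : S, topologicalKrullDim (p.fiber s) = 1)
    (G : Over X) [GrpObj G] [Smooth G.hom] [QuasiSeparated G.hom] :
    ∃ M : ℤ, ∀ (K : Type u) [Field K] (x : Spec (CommRingCat.of K) ⟶ S)
      (P : Over (pullback p x)) [GrpObj P] (i : P ⟶ Red.bc (pullback.fst p x) G), Red.IsParabolic i →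
      ∀ n : ℕ, FlatMod.IsFinLocFreeOfRank n (LieS.omega P) →
        -@Curv2.deg K _ (pullback p x) ⟨pullback.snd p x⟩ (LieS.omega P) n ≤ M := by
  have hE : FlatMod.IsFinLocFree (LieS.omega G) :=
    FlatMorAdm.isFinLocFree_pullback _ (LiftObs29.isFinLocFree_omega G.hom)
  haveI : CompactSpace X := QuasiCompact.compactSpace_of_compactSpace p
  obtain ⟨N, hN⟩ := exists_rank_bound hE
  obtain ⟨a, ha⟩ := exists_fibre_bound p hE 0
  obtain ⟨b, hb⟩ := exists_fibre_bound p hE 1
  obtain ⟨c, hc⟩ := exists_fibre_bound p (LocFreeLib.isFinLocFree_of_rank (KModel28.rank_structure (X := X))) 0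
  obtain ⟨d, hd⟩ := exists_fibre_bound p (LocFreeLib.isFinLocFree_of_rank (KModel28.rank_structure (X := X))) 1
  refine ⟨((a : ℤ) + d) * N + ((b : ℤ) + N * c), fun K _ x P _ i hi n hn => ?_⟩
  letI : (pullback p x).Over (Spec (CommRingCat.of K)) := ⟨pullback.snd p x⟩
  haveI : IsProper (pullback p x ↘ Spec (CommRingCat.of K)) :=
    inferInstanceAs (IsProper (pullback.snd p x))
  haveI : Smooth (pullback p x ↘ Spec (CommRingCat.of K)) :=
    inferInstanceAs (Smooth (pullback.snd p x))
  haveI : GeometricallyConnected (pullback p x ↘ Spec (CommRingCat.of K)) :=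
    inferInstanceAs (GeometricallyConnected (pullback.snd p x))
  haveI : GeometricallyIntegral (pullback p x ↘ Spec (CommRingCat.of K)) :=
    AbVarLib.geometricallyIntegral_of_smooth _
  haveI : IsIntegral (pullback p x) := GeometricallyIntegral.isIntegral_of_subsingleton (pullback p x ↘ Spec (CommRingCat.of K))
  have hdimK : topologicalKrullDim ↥(pullback p x) = 1 := by
    let s := x (IsLocalRing.closedPoint K)
    let φ := S.descResidueField (Scheme.stalkClosedPointTo x)
    have hφ : Spec.map φ ≫ S.fromSpecResidueField s = x :=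
      Scheme.descResidueField_stalkClosedPointTo_fromSpecResidueField K S x
    letI : Algebra (S.residueField s) K := φ.hom.toAlgebra
    let τ : pullback p x ⟶ p.fiber s := pullback.lift (pullback.fst p x) (pullback.snd p x ≫ Spec.map φ)
      (by rw [Category.assoc, hφ, pullback.condition])
    have houter : IsPullback (τ ≫ p.fiberι s) (pullback.snd p x) p (Spec.map φ ≫ S.fromSpecResidueField s) := by
      rw [show τ ≫ p.fiberι s = pullback.fst p x from pullback.lift_fst _ _ _, hφ]
      exact IsPullback.of_hasPullback p x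
    have hsq : IsPullback τ (pullback.snd p x) (p.fiberToSpecResidueField s) (Spec.map φ) :=
      IsPullback.of_right houter (pullback.lift_snd _ _ _) (IsPullback.of_hasPullback p (S.fromSpecResidueField s))
    let π₀ : p.fiber s ⟶ Spec (CommRingCat.of (S.residueField s)) := p.fiberToSpecResidueField s
    haveI : LocallyOfFiniteType π₀ :=
      MorphismProperty.pullback_snd (P := @LocallyOfFiniteType) _ _ inferInstance
    rw [hsq.isoPullback.hom.homeomorph.isHomeomorph.topologicalKrullDim_eq]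
    exact (DimLib.topologicalKrullDim_bc π₀ K).trans (hdim s)
  haveI := EulerLib.isNoetherian_of_proper K (X := pullback p x)
  haveI : Smooth (Red.bc (pullback.fst p x) G).hom :=
    inferInstanceAs (Smooth (pullback.snd G.hom (pullback.fst p x)))
  haveI : QuasiSeparated (Red.bc (pullback.fst p x) G).hom :=
    inferInstanceAs (QuasiSeparated (pullback.snd G.hom (pullback.fst p x)))
  obtain ⟨α⟩ := nonempty_omega_bc (pullback.fst p x) G
  have hlf : FlatMod.IsFinLocFree (LieS.omega (Red.bc (pullback.fst p x) G)) :=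
    FlatMorAdm.isFinLocFree_pullback _ (LiftObs29.isFinLocFree_omega (Red.bc (pullback.fst p x) G).hom)
  obtain ⟨r, hr⟩ := KModel28.exists_rank hlf
  have hrN : (r : ℤ) ≤ N := by exact_mod_cast hN _ (pullback.fst p x) r (KModel28.rank_iso α.symm hr)
  obtain ⟨u₀⟩ := AmpleLib.exists_pullStructureIso (pullback.fst p x)
  have h1 := neg_deg_omega_le K (pullback p x) hdimK (Red.bc (pullback.fst p x) G) r hr P i hi n hn
  have h2 : ((Module.finrank K (Coh.HH (pullback p x) (LieS.omega (Red.bc (pullback.fst p x) G)) 0) : ℕ) : ℤ) ≤ a :=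
    Int.ofNat_le.2 (ha K x _ ⟨α⟩)
  have h3 : ((Module.finrank K (Coh.HH (pullback p x) (LieS.omega (Red.bc (pullback.fst p x) G)) 1) : ℕ) : ℤ) ≤ b :=
    Int.ofNat_le.2 (hb K x _ ⟨α⟩)
  have h4 : ((Module.finrank K (Coh.HH (pullback p x) (Coh.structureModule _) 0) : ℕ) : ℤ) ≤ c :=
    Int.ofNat_le.2 (hc K x _ ⟨u₀⟩)
  have h5 : ((Module.finrank K (Coh.HH (pullback p x) (Coh.structureModule _) 1) : ℕ) : ℤ) ≤ d :=
    Int.ofNat_le.2 (hd K x _ ⟨u₀⟩)
  have e1 := CurveRR24.euler_eq_h0_sub_h1 K hdimK.le (LieS.omega (Red.bc (pullback.fst p x) G)) (SplitP1.isCoh_of_rank hr).1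
  have e2 := CurveRR24.euler_eq_h0_sub_h1 K hdimK.le (Coh.structureModule (pullback p x)) (Coherent.isCoh_structureModule _).1
  rw [VB5.gdeg, VB5.grk_eq hr, e1, e2] at h1
  unfold Curv2.genus at h1
  refine h1.trans ?_
  rw [abs_of_nonneg (by positivity)]
  set A := ((Module.finrank K (Coh.HH (pullback p x) (LieS.omega (Red.bc (pullback.fst p x) G)) 0) : ℕ) : ℤ)
  set B := ((Module.finrank K (Coh.HH (pullback p x) (LieS.omega (Red.bc (pullback.fst p x) G)) 1) : ℕ) : ℤ)
  set C := ((Module.finrank K (Coh.HH (pullback p x) (Coh.structureModule _) 0) : ℕ) : ℤ)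
  set D := ((Module.finrank K (Coh.HH (pullback p x) (Coh.structureModule _) 1) : ℕ) : ℤ)
  have hr0 : (0 : ℤ) ≤ r := Int.natCast_nonneg r
  have hA : (0 : ℤ) ≤ A := Int.natCast_nonneg _
  have hC : (0 : ℤ) ≤ C := Int.natCast_nonneg _
  have hD : (0 : ℤ) ≤ D := Int.natCast_nonneg _
  nlinarith [mul_le_mul (add_le_add h2 h5) hrN hr0 (by linarith : (0 : ℤ) ≤ (a : ℤ) + d),
    mul_le_mul hrN h4 hC (Int.natCast_nonneg N), mul_nonneg hr0 hD]

end Family

end Groth.Agent.ParDeg5
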